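import Cfsg.Agent.Lib.Suzuki.Eight.Cover
import Cfsg.Agent.Lib.Suzuki.Multiplier2

/-!
# Stem extensions of `Sz(8)`

The kernel of a stem extension is an image of the trace-zero subgroup of the field with eight
elements: it is generated by the commutators of lifts of a translation and a central translation.
-/

set_option autoImplicit false
set_option linter.unusedSectionVars false

namespace Cfsg.Agent.Suzuki.Eight

open Cfsg.Agent.Suzuki Cfsg.Agent.Suzuki.MultiplierSylow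
open scoped commutatorElement

variable {F : Type*} [Field F] [Fintype F] [CharP F 2]
variable (hF : Fintype.card F = 2 ^ (2 * 1 + 1))
variable {Γ : Type*} [Group Γ] (σ : Γ →* Cfsg.Sz F 1) (hsur : Function.Surjective σ)
  (hc : σ.ker ≤ Subgroup.center Γ)

include hF in
theorem inv_witness_eight : ∃ w₁ w₂ : F, w₁ ≠ 0 ∧ w₂ ≠ 0 ∧ w₁ + w₂ ≠ 0 ∧
    w₁⁻¹ + w₂⁻¹ ≠ 0 ∧ (w₁ + w₂)⁻¹ ≠ w₁⁻¹ + w₂⁻¹ := by
  obtain ⟨s, hs⟩ := exists_unit_ne_one (F := F) (m := 1) le_rfl hF
  have hw0 : (s : F) ≠ 0 := s.ne_zero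
  have hw1 : (s : F) ≠ 1 := fun h => hs (Units.ext h)
  have hw1' : (s : F) + 1 ≠ 0 := fun h => hw1 (CharTwo.add_eq_zero.1 h)
  refine ⟨s, 1, hw0, one_ne_zero, hw1', ?_, ?_⟩
  · rw [inv_one]
    exact fun h => hw1 (inv_eq_one.1 (CharTwo.add_eq_zero.1 h))
  · rw [inv_one]
    intro h
    field_simp at h
    have hq : (s : F) ^ 2 + s + 1 = 0 := by
      have h2 : (2 : F) = 0 := CharTwo.two_eq_zero
      linear_combination h + ((s : F) ^ 2 + s + 1) * h2
    have h7 := pow_seven hF hw0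
    have h3 : (s : F) ^ 3 = 1 := by linear_combination ((s : F) - 1) * hq
    apply hw1
    rw [← h7, show (s : F) ^ 7 = ((s : F) ^ 3) ^ 2 * s by ring, h3, one_pow, one_mul]

include hsur hc

/-- The kernel elements arising from commutators in the preimage of the translations are the values
of one homomorphism on `F` killing `1`. -/
theorem derived_inf_ker_le {P : Subgroup Γ} (hP : P.map σ ≤ U hF) :
    ∃ h : F → Γ, (∀ x, h x ∈ σ.ker) ∧ (∀ x y, h (x + y) = h x * h y) ∧ h 1 = 1 ∧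
      ∀ g ∈ ⁅P, P⁆ ⊓ σ.ker, ∃ x, g = h x := by
  have hcc := fun g g' {b b'} h h' =>
    comm_center_of hF σ hsur hc (inv_witness_eight hF) g g' (b := b) (b' := b') h h'
  choose l hl using hsur
  let A : F → Γ := fun a => l (tr hF a 0)
  let L : F → Γ := fun b => l (tr hF 0 b)
  have h0 : (0 : F) ^ 2 ^ (1 + 1) = 0 := zero_pow (by norm_num)
  have hker : ∀ x y, σ ⁅A x, L y⁆ = 1 := fun x y => by
    rw [sigma_comm hF σ (hl _) (hl _)]
    simp [tr_zero hF]
  have hmul : ∀ x y, σ (L (x + y)) = σ (L x * L y) := fun x y => by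
    rw [map_mul, hl, hl, hl, tr_zero_mul]
  have haddr : ∀ a x y, ⁅A a, L (x + y)⁆ = ⁅A a, L x⁆ * ⁅A a, L y⁆ := fun a x y => by
    rw [comm_congr σ hc (rfl : σ (A a) = σ (A a)) (hmul x y),
      comm_mul_right σ hc (fun z => central σ hc (hker _ _) z)]
  set h : F → Γ := fun x => ⁅A 1, L x⁆ with hh
  have hadd : ∀ x y, h (x + y) = h x * h y := haddr 1
  have h1 : h 1 = 1 := by
    have e : σ (L 1) = σ (A 1 * A 1) := by
      rw [map_mul, hl, hl, tr_mul]
      congr 1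
      · exact (CharTwo.add_self_eq_zero _).symm
      · simp
    rw [hh]
    change ⁅A 1, L 1⁆ = 1
    rw [comm_congr σ hc (rfl : σ (A 1) = σ (A 1)) e]
    exact commutatorElement_eq_one_iff_commute.2 ((Commute.refl _).mul_right (Commute.refl _))
  have hzero : h 0 = 1 := by
    have := hadd 0 0
    rw [add_zero] at this
    exact mul_eq_left.1 this.symm
  -- every mixed commutator is a value of `h`
  have hmix : ∀ g g' a b b', σ g = tr hF a b → σ g' = tr hF 0 b' → ∃ x, ⁅g, g'⁆ = h x := by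
    intro g g' a b b' hg hg'
    have hsplit : σ g = σ (A a * L b) := by
      rw [map_mul, hl, hl, hg, tr_mul]
      simp
    have e : ⁅g, g'⁆ = ⁅A a, L b'⁆ := by
      rw [comm_congr σ hc hsplit (hg'.trans (hl _).symm),
        comm_mul_left σ hc (fun z => by rw [hcc _ _ (hl _) (hl _)]; exact Commute.one_right z),
        hcc _ _ (hl _) (hl _), mul_one]
    rcases eq_or_ne a 0 with rfl | ha
    · exact ⟨0, by rw [e, hcc _ _ (hl _) (hl _), hzero]⟩
    obtain ⟨s, hs⟩ := theta_unit (m := 1) hF (inv_ne_zero ha)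
    refine ⟨a⁻¹ * (s : F) ^ 2 * b', ?_⟩
    rw [e]
    have h2 := conj_comm (l (tor hF s)) (A a) (L b')
    rw [(central σ hc (hker _ _) _).eq, mul_inv_cancel_right] at h2
    rw [h2]
    refine comm_congr σ hc ?_ ?_
    · rw [sigma_conj hF σ (hl _) (hl _), hl, mul_zero, hs, inv_mul_cancel₀ ha]
    · rw [sigma_conj hF σ (hl _) (hl _), hl, mul_zero, hs]
  refine ⟨h, fun x => MonoidHom.mem_ker.2 (hker _ _), hadd, h1, ?_⟩
  let H : Subgroup Γ :=
    { carrier := {g | ∃ x, g = h x}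
      mul_mem' := fun {g g'} ⟨x, hx⟩ ⟨y, hy⟩ => ⟨x + y, by rw [hx, hy, hadd]⟩
      one_mem' := ⟨0, hzero.symm⟩
      inv_mem' := fun {g} ⟨x, hx⟩ => ⟨x, by
        rw [hx, inv_eq_iff_mul_eq_one, ← hadd, CharTwo.add_self_eq_zero, hzero]⟩ }
  have hHker : H ≤ σ.ker := by
    rintro _ ⟨x, rfl⟩
    exact MonoidHom.mem_ker.2 (hker _ _)
  haveI : H.Normal := ⟨fun g hg t => by
    rw [Subgroup.mem_center_iff.1 (hc (hHker hg)) t, mul_inv_cancel_right]
    exact hg⟩
  set τ : Γ ⧸ H →* Cfsg.Sz F 1 := QuotientGroup.lift H σ hHker with hτ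
  have hτsur : Function.Surjective τ := fun y => ⟨QuotientGroup.mk' H (l y), hl y⟩
  have hτc : τ.ker ≤ Subgroup.center (Γ ⧸ H) := by
    intro y hy
    obtain ⟨x, rfl⟩ := QuotientGroup.mk_surjective y
    refine Subgroup.mem_center_iff.2 fun z => ?_
    obtain ⟨t, rfl⟩ := QuotientGroup.mk_surjective z
    rw [← QuotientGroup.mk_mul, ← QuotientGroup.mk_mul,
      Subgroup.mem_center_iff.1 (hc (MonoidHom.mem_ker.2 (MonoidHom.mem_ker.1 hy : σ x = 1))) t]
  have hcm : ∀ (g g' : Γ ⧸ H) {a b b' : F}, τ g = tr hF a b → τ g' = tr hF 0 b' → ⁅g, g'⁆ = 1 := by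
    intro g g' a b b' hg hg'
    obtain ⟨x, rfl⟩ := QuotientGroup.mk_surjective g
    obtain ⟨x', rfl⟩ := QuotientGroup.mk_surjective g'
    obtain ⟨y, hy⟩ := hmix x x' a b b' hg hg'
    change ⁅(QuotientGroup.mk' H x), QuotientGroup.mk' H x'⁆ = 1
    rw [← map_commutatorElement]
    exact (QuotientGroup.eq_one_iff _).2 ⟨y, hy⟩
  have hbar := derived_inf_ker_of hF τ hτsur hτc le_rfl (inv_witness_eight hF) hcm
    (P := P.map (QuotientGroup.mk' H)) (by
      rw [Subgroup.map_map]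
      exact hP)
  rintro g ⟨hg1, hg2⟩
  have hmem : QuotientGroup.mk' H g ∈
      ⁅P.map (QuotientGroup.mk' H), P.map (QuotientGroup.mk' H)⁆ ⊓ τ.ker := by
    refine ⟨?_, ?_⟩
    · rw [← Subgroup.map_commutator]
      exact Subgroup.mem_map_of_mem _ hg1
    · exact MonoidHom.mem_ker.2 (MonoidHom.mem_ker.1 hg2 : σ g = 1)
  rw [hbar, Subgroup.mem_bot] at hmem
  exact (QuotientGroup.eq_one_iff g).1 hmem

end Cfsg.Agent.Suzuki.Eight
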