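import Mathlib

/-!
# Corestriction of a 2-cocycle from a subgroup with trivial point stabilisers

A normalised 2-cocycle on a subgroup `U` is transferred to the whole group; if the nontrivial elements
of `U` fix only the cosets fixed by all of `U`, if these are represented by elements preserving the
cocycle and are odd in number, and the coefficients have exponent two, the restriction back to `U` is
the cocycle one started with.
-/

set_option autoImplicit false
set_option linter.unusedSectionVars false

namespace Cfsg.Agent.Suzuki.Eight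

open MulAction

universe u v

variable {G : Type u} [Group G] {A : Type v} [AddCommGroup A]

/-- A normalised 2-cocycle with trivial action. -/
structure Cocycle (G : Type u) [Group G] (A : Type v) [AddCommGroup A] where
  toFun : G → G → A
  one_left : ∀ g, toFun 1 g = 0
  one_right : ∀ g, toFun g 1 = 0
  assoc : ∀ g h k, toFun g h + toFun (g * h) k = toFun h k + toFun g (h * k)

/-- The central extension given by a cocycle. -/
structure Ext (c : Cocycle G A) : Type max u v where
  ker : A
  val : G

variable (c : Cocycle G A)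

theorem Ext.ext' {x y : Ext c} (h1 : x.ker = y.ker) (h2 : x.val = y.val) : x = y := by
  cases x; cases y; cases h1; cases h2; rfl

instance instExtMul : Mul (Ext c) :=
  ⟨fun x y => ⟨x.ker + y.ker + c.toFun x.val y.val, x.val * y.val⟩⟩

instance instExtOne : One (Ext c) := ⟨⟨0, 1⟩⟩

instance instExtInv : Inv (Ext c) := ⟨fun x => ⟨-x.ker - c.toFun x.val⁻¹ x.val, x.val⁻¹⟩⟩

theorem Ext.mul_def (x y : Ext c) :
    x * y = ⟨x.ker + y.ker + c.toFun x.val y.val, x.val * y.val⟩ := rfl

theorem Ext.one_def : (1 : Ext c) = ⟨0, 1⟩ := rfl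

theorem Ext.inv_def (x : Ext c) : x⁻¹ = ⟨-x.ker - c.toFun x.val⁻¹ x.val, x.val⁻¹⟩ := rfl

instance instExtGroup : Group (Ext c) :=
  Group.ofLeftAxioms
    (fun x y z => by
      refine Ext.ext' c ?_ (mul_assoc _ _ _)
      simp only [Ext.mul_def]
      have h := c.assoc x.val y.val z.val
      calc x.ker + y.ker + c.toFun x.val y.val + z.ker + c.toFun (x.val * y.val) z.val
          = x.ker + y.ker + z.ker + (c.toFun x.val y.val + c.toFun (x.val * y.val) z.val) := by abel
        _ = _ := by rw [h]; abel)
    (fun x => by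
      refine Ext.ext' c ?_ (one_mul _)
      simp only [Ext.mul_def, Ext.one_def, c.one_left]
      abel)
    (fun x => by
      refine Ext.ext' c ?_ (inv_mul_cancel _)
      simp only [Ext.mul_def, Ext.one_def, Ext.inv_def]
      abel)

instance instExtFinite [Finite G] [Finite A] : Finite (Ext c) :=
  Finite.of_injective (fun x : Ext c => (x.ker, x.val))
    fun _ _ h => Ext.ext' c (congrArg Prod.fst h) (congrArg Prod.snd h)

/-- The projection. -/
def proj : Ext c →* G where
  toFun x := x.val
  map_one' := rfl
  map_mul' _ _ := rfl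

theorem proj_surjective : Function.Surjective (proj c) := fun g => ⟨⟨0, g⟩, rfl⟩

theorem mem_ker_proj {x : Ext c} : x ∈ (proj c).ker ↔ x.val = 1 := MonoidHom.mem_ker

theorem ker_le_center : (proj c).ker ≤ Subgroup.center (Ext c) := fun x hx =>
  Subgroup.mem_center_iff.2 fun y => by
    have h := (mem_ker_proj c).1 hx
    refine Ext.ext' c ?_ ?_
    · simp only [Ext.mul_def, h, c.one_left, c.one_right]
      abel
    · simp only [Ext.mul_def, h, one_mul, mul_one]

/-- The kernel is the coefficient group. -/
def kerEquiv : (proj c).ker ≃* Multiplicative A where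
  toFun x := Multiplicative.ofAdd x.1.ker
  invFun a := ⟨⟨Multiplicative.toAdd a, 1⟩, rfl⟩
  left_inv x := Subtype.ext (Ext.ext' c rfl ((mem_ker_proj c).1 x.2).symm)
  right_inv _ := rfl
  map_mul' x y := by
    refine congrArg Multiplicative.ofAdd ?_
    change x.1.ker + y.1.ker + c.toFun x.1.val y.1.val = _
    rw [(mem_ker_proj c).1 x.2, c.one_left, add_zero]
    rfl

/-- The commutator of lifts of commuting elements. -/
theorem commutator_lift {g h : G} (hgh : g * h = h * g) :
    ((⟨0, g⟩ : Ext c) * ⟨0, h⟩) * ((⟨0, h⟩ : Ext c) * ⟨0, g⟩)⁻¹ =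
      ⟨c.toFun g h - c.toFun h g, 1⟩ := by
  rw [mul_inv_eq_iff_eq_mul]
  refine Ext.ext' c ?_ ?_
  · simp only [Ext.mul_def, c.one_left]
    abel
  · simp only [Ext.mul_def, one_mul, hgh]

section Cores

variable (U : Subgroup G) (f : Cocycle U A) (r : G ⧸ U → G)
  (hr : ∀ x, (r x : G ⧸ U) = x)

/-- The `U`-component of `g` at the coset `x`. -/
def comp (g : G) (x : G ⧸ U) : U :=
  ⟨(r (g • x))⁻¹ * (g * r x), by
    rw [← QuotientGroup.eq, hr, ← smul_eq_mul, ← MulAction.Quotient.smul_coe, hr]⟩

theorem comp_mul (g h : G) (x : G ⧸ U) :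
    comp U r hr (g * h) x = comp U r hr g (h • x) * comp U r hr h x := by
  refine Subtype.ext ?_
  simp only [comp, Subgroup.coe_mul, mul_smul]
  group

theorem comp_one (x : G ⧸ U) : comp U r hr 1 x = 1 := by
  refine Subtype.ext ?_
  simp [comp]

/-- The corestriction of a cocycle. -/
noncomputable def cores [Fintype (G ⧸ U)] : Cocycle G A where
  toFun g h := ∑ x, f.toFun (comp U r hr g (h • x)) (comp U r hr h x)
  one_left g := Finset.sum_eq_zero fun x _ => by rw [comp_one, f.one_left]
  one_right g := Finset.sum_eq_zero fun x _ => by rw [comp_one, f.one_right]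
  assoc g h k := by
    have e : ∑ x, f.toFun (comp U r hr g (h • x)) (comp U r hr h x) =
        ∑ x, f.toFun (comp U r hr g (h • k • x)) (comp U r hr h (k • x)) :=
      (Equiv.sum_comp (MulAction.toPerm k)
        fun x => f.toFun (comp U r hr g (h • x)) (comp U r hr h x)).symm
    rw [e, ← Finset.sum_add_distrib, ← Finset.sum_add_distrib]
    refine Finset.sum_congr rfl fun x _ => ?_
    rw [comp_mul, comp_mul U r hr h k, mul_smul]
    exact f.assoc _ _ _

end Cores

/-- There is a cocycle on `G` restricting to a given cocycle of exponent two on a 2-subgroup `U` whose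
nontrivial elements fix only the cosets fixed by all of `U`, provided these are odd in number and are
represented by elements preserving the cocycle. -/
theorem exists_cocycle_restrict [Finite G] (U : Subgroup G) (f : Cocycle U A) (hA : ∀ a : A, a + a = 0)
    (hU : IsPGroup 2 U) (hodd : Odd U.index)
    (hfree : ∀ (x : G ⧸ U) (p : U), p ≠ 1 → (p : G) • x = x → ∀ q : U, (q : G) • x = x)
    (hfix : ∀ x : G ⧸ U, (∀ q : U, (q : G) • x = x) → ∃ n : G, (n : G ⧸ U) = x ∧
      ∀ p q p' q' : U, (p' : G) = n⁻¹ * p * n → (q' : G) = n⁻¹ * q * n →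
        f.toFun p' q' = f.toFun p q) :
    ∃ c : Cocycle G A, ∀ p q : U, c.toFun p q = f.toFun p q := by
  classical
  haveI : Fintype (G ⧸ U) := Fintype.ofFinite _
  choose n hn hnf using hfix
  let rep : G ⧸ U → G ⧸ U := fun x => (Quotient.mk (MulAction.orbitRel U (G ⧸ U)) x).out
  have hrep : ∀ x, ∃ q : U, q • rep x = x := fun x =>
    MulAction.mem_orbit_iff.1 (MulAction.orbitRel_apply.1
      ((MulAction.orbitRel U (G ⧸ U)).symm' (Quotient.mk_out (s := MulAction.orbitRel U (G ⧸ U)) x)))
  choose qq hqq using hrep
  have hrep_smul : ∀ (p : U) x, rep ((p : G) • x) = rep x := fun p x => by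
    refine congrArg Quotient.out (Quotient.sound ?_)
    exact MulAction.orbitRel_apply.2 (MulAction.mem_orbit x p)
  let r : G ⧸ U → G := fun x =>
    if h : ∀ q : U, (q : G) • x = x then n x h else (qq x : G) * (rep x).out
  have hr : ∀ x, (r x : G ⧸ U) = x := by
    intro x
    by_cases h : ∀ q : U, (q : G) • x = x
    · simp only [r, dif_pos h]
      exact hn x h
    · simp only [r, dif_neg h]
      rw [← smul_eq_mul, ← MulAction.Quotient.smul_coe, QuotientGroup.out_eq']
      exact hqq x
  refine ⟨cores U f r hr, fun p q => ?_⟩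
  -- non-fixed cosets contribute nothing
  have hzero : ∀ (p : U) x, (¬ ∀ q : U, (q : G) • x = x) → comp U r hr (p : G) x = 1 := by
    intro p x hx
    have hx' : ¬ ∀ q : U, (q : G) • ((p : G) • x) = (p : G) • x := by
      intro h
      refine hx fun q => ?_
      have h1 : (p : G) • x = x := by
        have h2 := h p⁻¹
        rw [Subgroup.coe_inv, inv_smul_smul] at h2
        exact h2.symm
      simpa [h1] using h q
    have hq : (qq ((p : G) • x)) = p * qq x := by
      have h1 := hqq ((p : G) • x)
      rw [hrep_smul, ← eq_inv_smul_iff] at h1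
      have h1' : rep x = ((qq ((p : G) • x))⁻¹ * p : U) • x := by
        rw [h1, mul_smul]
        rfl
      have h2 : (((qq ((p : G) • x))⁻¹ * p * qq x : U) : G) • rep x = rep x := by
        rw [Subgroup.coe_mul, mul_smul, show ((qq x : U) : G) • rep x = x from hqq x]
        exact h1'.symm
      by_contra hne
      apply hx
      intro t
      have h3 := hfree (rep x) _ (fun e => hne ?_) h2
      · rw [← hqq x]
        change (t : G) • ((qq x : G) • rep x) = (qq x : G) • rep x
        rw [← mul_smul, ← Subgroup.coe_mul, h3, h3 (qq x)]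
      · rw [mul_assoc, inv_mul_eq_one] at e
        exact e
    refine Subtype.ext ?_
    simp only [comp, r, dif_neg hx, dif_neg hx', hrep_smul, hq, Subgroup.coe_mul, Subgroup.coe_one]
    group
  have hterm : ∀ x, f.toFun (comp U r hr (p : G) ((q : G) • x)) (comp U r hr (q : G) x) =
      if ∀ t : U, (t : G) • x = x then f.toFun p q else 0 := by
    intro x
    by_cases hx : ∀ t : U, (t : G) • x = x
    · rw [if_pos hx, hx q]
      refine hnf x hx p q _ _ ?_ ?_ <;>
        · simp only [comp, hx p, hx q, r, dif_pos hx]
          group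
    · rw [if_neg hx, hzero q x hx, f.one_right]
  change ∑ x, _ = _
  rw [Finset.sum_congr rfl fun x _ => hterm x, Finset.sum_ite, Finset.sum_const_zero, add_zero,
    Finset.sum_const]
  have hcard : Odd (Finset.univ.filter fun x : G ⧸ U => ∀ t : U, (t : G) • x = x).card := by
    haveI : Fact (Nat.Prime 2) := ⟨Nat.prime_two⟩
    have h := hU.card_modEq_card_fixedPoints (G ⧸ U)
    rw [← Subgroup.index] at h
    have e : Nat.card (fixedPoints U (G ⧸ U)) =
        (Finset.univ.filter fun x : G ⧸ U => ∀ t : U, (t : G) • x = x).card := by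
      rw [← Fintype.card_subtype, ← Nat.card_eq_fintype_card]
      exact Nat.card_congr (Equiv.subtypeEquivRight fun x => Iff.rfl)
    rw [e] at h
    rw [Nat.odd_iff] at hodd ⊢
    rw [← h]
    exact hodd
  obtain ⟨k, hk⟩ := hcard
  rw [hk, add_smul, mul_smul, one_smul, two_smul, hA, zero_add]

end Cfsg.Agent.Suzuki.Eight
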