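import Cfsg.Agent.Lib.Suzuki.Eight.Corestriction
import Cfsg.Agent.Lib.Suzuki.Sylow
import Cfsg.Prelude.Def_KGroupFacts

/-!
# The four-fold cover of `Sz(8)`

The cocycle is written down on the translation group and transferred to the whole group.
-/

set_option autoImplicit false
set_option linter.unusedSectionVars false

namespace Cfsg.Agent.Suzuki.Eight

open Cfsg.Agent.Suzuki MulAction
open scoped commutatorElement

variable {F : Type*} [Field F] [Fintype F] [CharP F 2]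
variable (hF : Fintype.card F = 2 ^ (2 * 1 + 1))

theorem pow_eight (hF : Fintype.card F = 2 ^ (2 * 1 + 1)) (x : F) : x ^ 8 = x := by
  have h := FiniteField.pow_card x
  rwa [hF, show 2 ^ (2 * 1 + 1) = 8 by norm_num] at h

theorem pow_seven (hF : Fintype.card F = 2 ^ (2 * 1 + 1)) {x : F} (hx : x ≠ 0) : x ^ 7 = 1 := by
  refine mul_right_cancel₀ hx ?_
  rw [← pow_succ, one_mul]
  exact pow_eight hF x

/-- The elements of trace zero. -/
def traceZero (F : Type*) [Field F] [CharP F 2] : AddSubgroup F where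
  carrier := {x | x ^ 4 + x ^ 2 + x = 0}
  zero_mem' := by simp
  add_mem' := fun {x y} hx hy => by
    simp only [Set.mem_setOf_eq] at hx hy ⊢
    simp only [show ∀ u : F, u ^ 4 = (u ^ 2) ^ 2 from fun u => pow_mul u 2 2, CharTwo.add_sq] at *
    linear_combination hx + hy
  neg_mem' := fun {x} hx => by simpa [CharTwo.neg_eq] using hx

/-- The projection to trace zero. -/
def projZero (hF : Fintype.card F = 2 ^ (2 * 1 + 1)) : F →+ traceZero F where
  toFun x := ⟨x ^ 4 + x ^ 2, by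
    have h8 := pow_eight hF x
    have h2 : (2 : F) = 0 := CharTwo.two_eq_zero
    show (x ^ 4 + x ^ 2) ^ 4 + (x ^ 4 + x ^ 2) ^ 2 + (x ^ 4 + x ^ 2) = 0
    have hs : ∀ u v : F, (u + v) ^ 4 = u ^ 4 + v ^ 4 := fun u v => by
      rw [show (4 : ℕ) = 2 * 2 from rfl, pow_mul, pow_mul, pow_mul, CharTwo.add_sq, CharTwo.add_sq]
    rw [hs, CharTwo.add_sq, show (x ^ 4) ^ 4 = (x ^ 8) ^ 2 by ring, show (x ^ 4) ^ 2 = x ^ 8 by ring,
      show (x ^ 2) ^ 4 = x ^ 8 by ring, h8]
    linear_combination (x + x ^ 2 + x ^ 4) * h2⟩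
  map_zero' := Subtype.ext (by simp)
  map_add' x y := Subtype.ext (by
    show (x + y) ^ 4 + (x + y) ^ 2 = x ^ 4 + x ^ 2 + (y ^ 4 + y ^ 2)
    rw [show (4 : ℕ) = 2 * 2 from rfl, pow_mul, pow_mul, pow_mul, CharTwo.add_sq, CharTwo.add_sq]
    ring)

theorem two_torsion (a : traceZero F) : a + a = 0 :=
  Subtype.ext (CharTwo.add_self_eq_zero (a : F))

/-- The polynomial defining the cocycle. -/
def form (p q : F × F) : F :=
  p.2 ^ 4 * q.1 + (p.2 ^ 4 * q.1) ^ 2 + p.1 ^ 6 * q.1 + p.1 ^ 4 * q.1 ^ 3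

include hF

theorem form_assoc (a b c d e g : F) :
    form (a, b) (c, d) + form (a + c, b + d + a ^ 4 * c) (e, g) =
      form (c, d) (e, g) + form (a, b) (c + e, d + g + c ^ 4 * e) := by
  have h2 : (2 : F) = 0 := CharTwo.two_eq_zero
  have ha := pow_eight hF a
  have hc := pow_eight hF c
  have hs : ∀ u v : F, (u + v) ^ 4 = u ^ 4 + v ^ 4 := fun u v => by
    rw [show (4 : ℕ) = 2 * 2 from rfl, pow_mul, pow_mul, pow_mul, CharTwo.add_sq, CharTwo.add_sq]
  have ha16 : (a ^ 4 * c) ^ 4 = a ^ 2 * c ^ 4 := by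
    rw [show (a ^ 4 * c) ^ 4 = (a ^ 8) ^ 2 * c ^ 4 by ring, ha]
  have h6 : (a + c) ^ 6 = (a ^ 4 + c ^ 4) * (a ^ 2 + c ^ 2) := by
    rw [← hs, ← CharTwo.add_sq]
    ring
  have h3 : (c + e) ^ 3 = (c ^ 2 + e ^ 2) * (c + e) := by
    rw [← CharTwo.add_sq]
    ring
  simp only [form, h6, h3, hs, ha16, add_mul, mul_add, CharTwo.add_sq]
  rw [show (a ^ 2 * c ^ 4 * e) ^ 2 = a ^ 4 * e ^ 2 * c ^ 8 by ring, hc]
  linear_combination (c ^ 4 * a ^ 2 * e) * h2

theorem form_scale {u : F} (hu : u ≠ 0) (a b c d : F) :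
    form (u ^ 4 * a, u ^ 4 * u ^ 2 * b) (u ^ 4 * c, u ^ 4 * u ^ 2 * d) = form (a, b) (c, d) := by
  have h7 := pow_seven hF hu
  have e1 : (u ^ 4 * u ^ 2 * b) ^ 4 * (u ^ 4 * c) = (u ^ 7) ^ 4 * (b ^ 4 * c) := by ring
  have e2 : (u ^ 4 * a) ^ 6 * (u ^ 4 * c) = (u ^ 7) ^ 4 * (a ^ 6 * c) := by ring
  have e3 : (u ^ 4 * a) ^ 4 * (u ^ 4 * c) ^ 3 = (u ^ 7) ^ 4 * (a ^ 4 * c ^ 3) := by ring
  simp only [form, e1, e2, e3, h7, one_pow, one_mul]

/-- The coordinates of a translation. -/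
noncomputable def coord (p : U (m := 1) hF) : F × F :=
  ((ut_surjective hF p).choose, (ut_surjective hF p).choose_spec.choose)

theorem coord_spec (p : U (m := 1) hF) : p = ut hF (coord hF p).1 (coord hF p).2 :=
  (ut_surjective hF p).choose_spec.choose_spec

theorem coord_ut (a b : F) : coord hF (ut hF a b) = (a, b) := by
  have h := ut_injective hF (coord_spec hF (ut hF a b))
  exact Prod.ext h.1.symm h.2.symm

theorem coord_one : coord hF 1 = (0, 0) := by rw [← ut_zero hF, coord_ut]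

/-- The cocycle on the translations. -/
noncomputable def cocycleU : Cocycle (U (m := 1) hF) (traceZero F) where
  toFun p q := projZero hF (form (coord hF p) (coord hF q))
  one_left p := by rw [coord_one]; simp [form]
  one_right p := by rw [coord_one]; simp [form]
  assoc p q r := by
    rw [← map_add, ← map_add]
    obtain ⟨a, b, rfl⟩ := ut_surjective hF p
    obtain ⟨c, d, rfl⟩ := ut_surjective hF q
    obtain ⟨e, g, rfl⟩ := ut_surjective hF r
    rw [ut_mul, ut_mul, coord_ut, coord_ut, coord_ut, coord_ut, coord_ut]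
    exact congrArg _ (form_assoc hF a b c d e g)

theorem eq_infty_of_fix {a b : F} (h : (tr hF a b : Cfsg.Sz F 1) ≠ 1) {q : Cfsg.suzukiOvoid F 1}
    (hq : tr hF a b • q = q) : q = infty 1 := by
  rcases cases_point q with rfl | ⟨x, y, rfl⟩
  · rfl
  · rw [tr_smul_point] at hq
    obtain ⟨h1, h2⟩ := point_injective hq
    have ha : a = 0 := by linear_combination h1
    subst ha
    have hb : b = 0 := by simpa using h2
    subst hb
    exact absurd (tr_zero hF) h

theorem tor_conj_inv (s : Fˣ) (a b : F) :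
    (tor hF s)⁻¹ * tr hF a b * tor hF s = (tr hF (((s⁻¹ : Fˣ) : F) ^ 4 * a)
      (((s⁻¹ : Fˣ) : F) ^ 4 * ((s⁻¹ : Fˣ) : F) ^ 2 * b) : Cfsg.Sz F 1) := by
  have h := conj_tr (m := 1) hF s⁻¹ a b
  rwa [← tor_inv, inv_inv] at h

/-- Nontrivial translations fix only the cosets fixed by all translations. -/
theorem exists_tor_of_fix (g : Cfsg.Sz F 1) (p : U (m := 1) hF) (hp : p ≠ 1)
    (hfix : g⁻¹ * p * g ∈ U hF) :
    ∃ s, (g : Cfsg.Sz F 1 ⧸ U hF) = (tor hF s : Cfsg.Sz F 1) := by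
  obtain ⟨a, b, rfl⟩ := ut_surjective hF p
  obtain ⟨c, d, hcd⟩ := hfix
  have h1 : tr hF a b • (g • infty (F := F) 1) = g • infty 1 := by
    have h2 : (g⁻¹ * tr hF a b * g) • infty (F := F) 1 = infty 1 := by
      rw [show g⁻¹ * tr hF a b * g = tr hF c d from hcd, tr_smul_infty]
    rwa [mul_smul, mul_smul, inv_smul_eq_iff] at h2
  have h3 := eq_infty_of_fix hF (fun e => hp (Subtype.ext e)) h1
  obtain ⟨a', b', s, rfl⟩ := exists_tr_to le_rfl hF h3
  refine ⟨s, QuotientGroup.eq.2 ?_⟩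
  rw [mul_inv_rev, tr_inv, tor_conj_inv]
  exact ⟨_, _, rfl⟩

theorem smul_coset_iff (g p : Cfsg.Sz F 1) :
    p • (g : Cfsg.Sz F 1 ⧸ U hF) = g ↔ g⁻¹ * p * g ∈ U hF := by
  rw [MulAction.Quotient.smul_coe, eq_comm, QuotientGroup.eq, smul_eq_mul, mul_assoc]

theorem exists_restrict :
    ∃ c : Cocycle (Cfsg.Sz F 1) (traceZero F), ∀ p q : U (m := 1) hF,
      c.toFun p q = (cocycleU hF).toFun p q := by
  obtain ⟨P, hP⟩ := exists_sylow (m := 1) le_rfl hF
  haveI : Fact (Nat.Prime 2) := ⟨Nat.prime_two⟩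
  refine exists_cocycle_restrict _ _ two_torsion (hP ▸ P.2) ?_ ?_ ?_
  · rw [← hP, Nat.odd_iff]
    have := P.not_dvd_index
    omega
  · intro x p hp hx q
    obtain ⟨g, rfl⟩ := QuotientGroup.mk_surjective x
    obtain ⟨s, hs⟩ := exists_tor_of_fix hF g p hp ((smul_coset_iff hF g p).1 hx)
    obtain ⟨a, b, rfl⟩ := ut_surjective hF q
    rw [hs]
    refine (smul_coset_iff hF _ _).2 ?_
    change (tor hF s)⁻¹ * tr hF a b * tor hF s ∈ U hF
    rw [tor_conj_inv]
    exact ⟨_, _, rfl⟩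
  · intro x hx
    obtain ⟨g, rfl⟩ := QuotientGroup.mk_surjective x
    have hne : (ut hF 1 0 : U (m := 1) hF) ≠ 1 := fun e =>
      one_ne_zero (ut_injective hF (e.trans (ut_zero hF).symm)).1
    obtain ⟨s, hs⟩ := exists_tor_of_fix hF g _ hne ((smul_coset_iff hF g _).1 (hx _))
    refine ⟨tor hF s, hs.symm, fun p q p' q' hp' hq' => ?_⟩
    obtain ⟨a, b, rfl⟩ := ut_surjective hF p
    obtain ⟨c, d, rfl⟩ := ut_surjective hF q
    have e1 : p' = ut hF _ _ := Subtype.ext (hp'.trans (tor_conj_inv hF s a b))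
    have e2 : q' = ut hF _ _ := Subtype.ext (hq'.trans (tor_conj_inv hF s c d))
    change projZero hF (form (coord hF p') (coord hF q')) =
      projZero hF (form (coord hF (ut hF a b)) (coord hF (ut hF c d)))
    rw [e1, e2, coord_ut, coord_ut, coord_ut, coord_ut, form_scale hF (Units.ne_zero _)]

theorem card_traceZero : Nat.card (traceZero F) = 4 := by
  classical
  set φ := projZero hF with hφ
  have hsurj : Function.Surjective φ := fun z => ⟨z, Subtype.ext (by
    have h := z.2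
    change (z : F) ^ 4 + (z : F) ^ 2 + (z : F) = 0 at h
    exact CharTwo.add_eq_zero.1 h)⟩
  have hker : Nat.card φ.ker = 2 := by
    rw [Nat.card_eq_two_iff]
    refine ⟨0, ⟨1, AddMonoidHom.mem_ker.2 (Subtype.ext ?_)⟩, fun e => zero_ne_one (congrArg Subtype.val e), ?_⟩
    · show (1 : F) ^ 4 + 1 ^ 2 = 0
      simp [CharTwo.add_self_eq_zero]
    · ext ⟨x, hx⟩
      simp only [Set.mem_insert_iff, Set.mem_singleton_iff, Set.mem_univ, iff_true, Subtype.ext_iff]
      have h : x ^ 4 + x ^ 2 = 0 := congrArg Subtype.val (AddMonoidHom.mem_ker.1 hx)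
      rcases eq_or_ne x 0 with h0 | h0
      · exact Or.inl h0
      · right
        have h1 : x ^ 4 = x ^ 2 := CharTwo.add_eq_zero.1 h
        have h3 : x ^ 2 = 1 := mul_right_cancel₀ (pow_ne_zero 2 h0) (by rw [one_mul, ← pow_add]; exact h1)
        exact CharTwo.sq_inj.1 (by rw [h3, one_pow])
  have h := AddSubgroup.card_eq_card_quotient_mul_card_addSubgroup φ.ker
  rw [Nat.card_congr (QuotientAddGroup.quotientKerEquivOfSurjective φ hsurj).toEquiv, hker,
    Nat.card_eq_fintype_card (α := F), hF] at h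
  omega

theorem traceZero_equiv : Nonempty (Multiplicative (traceZero F) ≃* Multiplicative (ZMod 2 × ZMod 2)) := by
  haveI : IsKleinFour (Multiplicative (ZMod 2 × ZMod 2)) := inferInstance
  haveI : IsKleinFour (Multiplicative (traceZero F)) := by
    have hc : Nat.card (Multiplicative (traceZero F)) = 4 := by
      rw [Nat.card_congr Multiplicative.toAdd, card_traceZero hF]
    refine ⟨hc, ?_⟩
    haveI : Fact (Nat.Prime 2) := ⟨Nat.prime_two⟩
    haveI : Nontrivial (Multiplicative (traceZero F)) :=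
      Finite.one_lt_card_iff_nontrivial.1 (by omega)
    exact (Monoid.exponent_eq_prime_iff Nat.prime_two).2 fun x hx => orderOf_eq_prime
      (by rw [pow_two]; exact Multiplicative.toAdd.injective (two_torsion x.toAdd)) hx
  exact IsKleinFour.nonempty_mulEquiv

/-- There is a stem extension of `Sz(8)` with kernel a four-group. -/
theorem exists_stem : ∃ c : Cocycle (Cfsg.Sz F 1) (traceZero F),
    (proj c).ker ≤ commutator (Ext c) := by
  obtain ⟨c, hc⟩ := exists_restrict hF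
  refine ⟨c, fun x hx => ?_⟩
  have hz : (x.ker : F) ^ 4 + (x.ker : F) ^ 2 + (x.ker : F) = 0 := x.ker.2
  set z : F := (x.ker : F) with hzdef
  set g : U (m := 1) hF := ut hF 1 0 with hg
  set h : U (m := 1) hF := ut hF 0 (z ^ 4) with hh
  have hgh : (g : Cfsg.Sz F 1) * h = h * g := by
    rw [← Subgroup.coe_mul, ← Subgroup.coe_mul, hg, hh, ut_mul, ut_mul]
    simp
  have hd : c.toFun (g : Cfsg.Sz F 1) h - c.toFun (h : Cfsg.Sz F 1) g = x.ker := by
    rw [hc, hc]
    change projZero hF (form (coord hF g) (coord hF h)) -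
      projZero hF (form (coord hF h) (coord hF g)) = x.ker
    rw [hg, hh, coord_ut, coord_ut]
    refine Subtype.ext ?_
    have e0 : form ((1 : F), (0 : F)) (0, z ^ 4) = 0 := by simp [form]
    have e1 : form ((0 : F), z ^ 4) (1, 0) = z ^ 2 + z ^ 4 := by
      simp only [form, mul_one, zero_pow (by norm_num : (6 : ℕ) ≠ 0), zero_pow (by norm_num : (4 : ℕ) ≠ 0),
        zero_mul, add_zero]
      rw [show ((z ^ 4) ^ 4) = (z ^ 8) ^ 2 by ring, pow_eight hF, ← pow_mul]
    rw [e0, e1, map_zero, zero_sub]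
    show -((z ^ 2 + z ^ 4) ^ 4 + (z ^ 2 + z ^ 4) ^ 2) = z
    have hs : ∀ u v : F, (u + v) ^ 4 = u ^ 4 + v ^ 4 := fun u v => by
      rw [show (4 : ℕ) = 2 * 2 from rfl, pow_mul, pow_mul, pow_mul, CharTwo.add_sq, CharTwo.add_sq]
    rw [CharTwo.neg_eq, hs, CharTwo.add_sq, show (z ^ 2) ^ 4 = z ^ 8 by ring,
      show (z ^ 4) ^ 4 = (z ^ 8) ^ 2 by ring, show (z ^ 4) ^ 2 = z ^ 8 by ring, pow_eight hF,
      show (z ^ 2) ^ 2 = z ^ 4 by ring]
    have h2 : (2 : F) = 0 := CharTwo.two_eq_zero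
    linear_combination hz
  have hx1 : x = ⟨x.ker, 1⟩ := Ext.ext' c rfl ((mem_ker_proj c).1 hx)
  rw [hx1, ← hd, ← commutator_lift c hgh]
  rw [commutator_def, mul_inv_rev, ← mul_assoc]
  exact Subgroup.commutator_mem_commutator (Subgroup.mem_top _) (Subgroup.mem_top _)

end Cfsg.Agent.Suzuki.Eight
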